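import Cfsg.Agent.H726.CY.StA
import Cfsg.Agent.H598.CY.Orb

/-!
# S4829 : a regular `p`-subgroup `Q₀` of the torus, a diagram without symmetries (helper364, after helper726)

`a ∈ C_A(Q₀)` acts on the chambers fixed by `Q₀`, that is on `W`, by the right multiplication by a central element of `W`,
that is by `1` or by the longest element.

* `rowA_torus_J` : if the element is `1` for all `p`-regular `a ∈ A` centralizing a Sylow `p`-subgroup, then the Steinberg
  character is a witness; else the number of the orbits of `C_X(P)` on the points of `S / P_J` fixed by `P` is half of the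
  number of the fixed points, and we use the permutation character on `S / P_J`, if `|S : P_J|` is not `2` modulo `p`.
-/

set_option autoImplicit false
set_option linter.unusedSectionVars false

namespace Cfsg.Agent.H364.CY

open Cfsg CoxeterSystem Cfsg.Agent.ChevalleyStructure.CoxeterGeom Cfsg.Agent.Tits.Roots Cfsg.Agent.Tits.Core
  Cfsg.Agent.Tits.Exchange Cfsg.Agent.Nodes.Reps Cfsg.Agent.Nodes.BNOf Cfsg.Agent.Nodes.StabComb
  Cfsg.Agent.Nodes.Bruhat Cfsg.Agent.Nodes.OppDec Cfsg.Agent.Nodes.LeviDec Cfsg.Agent.Nodes.NormalForm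
  Cfsg.Agent.H116.RatB0 Cfsg.Agent.H116.TraceOrb Cfsg.Agent.H167.AltTrace Cfsg.Agent.H167.AltBldg
  Cfsg.Agent.H116.StAut Cfsg.Agent.H770.CY

universe u

/-! ### The Weyl group -/

section Weyl

variable {I W : Type*} [Fintype I] [DecidableEq I] [Group W] {M : CoxeterMatrix I}
  {cs : CoxeterSystem M W} {A : I → I → ℤ} {h : IsCartan M A}

theorem supp_of_comm {w : W} (hw : ∀ i, w⁻¹ * cs.simple i * w = cs.simple i) {i k : I} (hk : k ≠ i) :
    rep cs h w⁻¹ (sr i) k = 0 := by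
  have h1 : rep cs h (cs.simple i) (rep cs h w⁻¹ (sr i)) = - rep cs h w⁻¹ (sr i) := by
    conv_lhs => rw [← hw i]
    rw [rep_mul_apply, rep_mul_apply, rep_apply_inv, rep_simple_sr, map_neg]
  have h2 := congrFun h1 k
  rw [rep_simple_apply cs h _ _ k hk, Pi.neg_apply] at h2
  omega

theorem eq_smul_of_comm {w : W} (hw : ∀ i, w⁻¹ * cs.simple i * w = cs.simple i) (i : I) :
    rep cs h w⁻¹ (sr i) = (rep cs h w⁻¹ (sr i) i) • sr i := by
  funext k
  by_cases hk : k = i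
  · subst hk
    rw [Pi.smul_apply, sr_self, smul_eq_mul, mul_one]
  · rw [supp_of_comm hw hk, Pi.smul_apply, sr_ne hk, smul_zero]

/-- a central element `≠ 1` of an irreducible Weyl group maps the simple roots to negative roots -/
theorem neg_of_ne_one (hconn : ∀ D : Set I, D.Nonempty → Dᶜ.Nonempty → ∃ i ∈ D, ∃ j ∈ Dᶜ, M i j ≠ 2)
    {w : W} (hw : ∀ i, w⁻¹ * cs.simple i * w = cs.simple i) (hw1 : w ≠ 1) (i : I) :
    rep cs h w⁻¹ (sr i) i < 0 := by
  have hroot : ∀ i, IsRoot cs h (rep cs h w⁻¹ (sr i)) := fun i => ⟨w⁻¹, i, rfl⟩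
  -- the sign
  have hsg : ∀ i, rep cs h w⁻¹ (sr i) i < 0 ∨ 0 < rep cs h w⁻¹ (sr i) i := by
    intro i
    rcases lt_trichotomy (rep cs h w⁻¹ (sr i) i) 0 with h1 | h1 | h1
    · exact Or.inl h1
    · exfalso
      refine (hroot i).ne_zero ?_
      rw [eq_smul_of_comm hw, h1, zero_smul]
    · exact Or.inr h1
  by_contra hi0
  have hi : 0 < rep cs h w⁻¹ (sr i) i := (hsg i).resolve_left hi0
  by_cases hD : {j | rep cs h w⁻¹ (sr j) j < 0}.Nonempty
  · obtain ⟨j, hj, k, hk, hjk⟩ := hconn _ hD ⟨i, hi0⟩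
    have hj' : rep cs h w⁻¹ (sr j) j < 0 := hj
    have hk' : 0 < rep cs h w⁻¹ (sr k) k := (hsg k).resolve_left hk
    have hne : j ≠ k := by
      rintro rfl
      exact hk hj
    have hA : A j k < 0 := cartan_neg h hne hjk
    have hz : IsRoot cs h (rep cs h (w⁻¹ * cs.simple j) (sr k)) := ⟨_, k, rfl⟩
    have e : rep cs h (w⁻¹ * cs.simple j) (sr k) = rep cs h w⁻¹ (sr k) - A j k • rep cs h w⁻¹ (sr j) := by
      rw [rep_mul_apply, rep_simple_eq, map_sub, map_smul, sr, pairing_single, mul_one]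
    have h1 : rep cs h (w⁻¹ * cs.simple j) (sr k) j < 0 := by
      rw [e, Pi.sub_apply, Pi.smul_apply, supp_of_comm hw hne, smul_eq_mul]
      have := mul_pos_of_neg_of_neg hA hj'
      omega
    have h2 : 0 < rep cs h (w⁻¹ * cs.simple j) (sr k) k := by
      rw [e, Pi.sub_apply, Pi.smul_apply, supp_of_comm hw hne.symm, smul_zero, sub_zero]
      exact hk'
    rcases hz.pos_or_neg with h3 | h3
    · exact absurd (h3 j) (not_le.2 h1)
    · exact absurd (h3 k) (not_le.2 h2)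
  · have hw2 : w⁻¹ ≠ 1 := fun h0 => hw1 (inv_eq_one.1 h0)
    obtain ⟨j, hj⟩ := cs.exists_rightDescent_of_ne_one hw2
    have h1 := nonpos_of_lt cs h w⁻¹ j hj
    refine hD ⟨j, ?_⟩
    have h2 : rep cs h w⁻¹ (sr j) j ≤ 0 := h1 j
    rcases hsg j with h3 | h3
    · exact h3
    · exact absurd h2 (not_le.2 h3)

/-- the center has order at most two -/
theorem mul_eq_one' (hconn : ∀ D : Set I, D.Nonempty → Dᶜ.Nonempty → ∃ i ∈ D, ∃ j ∈ Dᶜ, M i j ≠ 2)
    (h : IsCartan M A) {w w' : W}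
    (hw : ∀ i, w⁻¹ * cs.simple i * w = cs.simple i) (hw' : ∀ i, w'⁻¹ * cs.simple i * w' = cs.simple i)
    (hw1 : w ≠ 1) (hw1' : w' ≠ 1) : w' * w = 1 := by
  by_contra hne
  have h0 : w⁻¹ * w'⁻¹ ≠ 1 := by
    intro h1
    apply hne
    rw [← inv_eq_one, mul_inv_rev, h1]
  obtain ⟨j, hj⟩ := cs.exists_rightDescent_of_ne_one h0
  have h1 := nonpos_of_lt cs h _ j hj
  have h2 := neg_of_ne_one (h := h) hconn hw hw1 j
  have h3 := neg_of_ne_one (h := h) hconn hw' hw1' j
  have h4 : rep cs h (w⁻¹ * w'⁻¹) (sr j) j = rep cs h w'⁻¹ (sr j) j * rep cs h w⁻¹ (sr j) j := by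
    rw [rep_mul_apply, eq_smul_of_comm (h := h) hw' j, map_smul, Pi.smul_apply, smul_eq_mul]
    simp [sr_self]
  have h5 : rep cs h (w⁻¹ * w'⁻¹) (sr j) j ≤ 0 := h1 j
  rw [h4] at h5
  exact absurd h5 (not_le.2 (mul_pos_of_neg_of_neg h3 h2))

theorem eq_of_comm (hconn : ∀ D : Set I, D.Nonempty → Dᶜ.Nonempty → ∃ i ∈ D, ∃ j ∈ Dᶜ, M i j ≠ 2)
    (h : IsCartan M A) {w w' : W}
    (hw : ∀ i, w⁻¹ * cs.simple i * w = cs.simple i) (hw' : ∀ i, w'⁻¹ * cs.simple i * w' = cs.simple i)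
    (hw1 : w ≠ 1) (hw1' : w' ≠ 1) : w' = w := by
  have h1 := mul_eq_one' hconn h hw hw' hw1 hw1'
  have h2 := mul_eq_one' hconn h hw hw hw1 hw1
  exact mul_right_cancel (h1.trans h2.symm)

end Weyl

/-! ### Isometries -/

section Iso

variable {I W : Type*} [Group W] {M : CoxeterMatrix I} {cs : CoxeterSystem M W} {C : Type*}

theorem iso_of_panel (Δ : Bldg cs C) (f : C → C)
    (hf : ∀ i x y, Δ.δ x y = cs.simple i → Δ.δ (f x) (f y) = cs.simple i) (x y : C) :
    Δ.δ (f x) (f y) = Δ.δ x y := by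
  suffices H : ∀ n, ∀ y, cs.length (Δ.δ x y) = n → Δ.δ (f x) (f y) = Δ.δ x y from H _ y rfl
  intro n
  induction n with
  | zero =>
    intro y hy
    rw [cs.length_eq_zero_iff, Δ.eq_one] at hy
    subst hy
    rw [(Δ.eq_one _ _).2 rfl, (Δ.eq_one _ _).2 rfl]
  | succ n ih =>
    intro y hy
    have h1 : Δ.δ x y ≠ 1 := by
      intro h0
      rw [h0, cs.length_one] at hy
      omega
    obtain ⟨i, hi⟩ := cs.exists_rightDescent_of_ne_one h1
    obtain ⟨z, hz1, hz2⟩ := Δ.exists_step x y i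
    have h2 := (cs.isRightDescent_iff).1 hi
    have h3 : cs.length (Δ.δ x z) = n := by rw [hz2]; omega
    have h4 := ih z h3
    have h5 : Δ.δ z y = cs.simple i := by rw [Δ.symm y z, hz1, cs.inv_simple]
    have h6 := hf i z y h5
    have h7 := Δ.step_lt (f x) (f z) (f y) i h6 (by
      rw [h4, hz2, mul_assoc, cs.simple_mul_simple_self, mul_one]
      omega)
    rw [h7, h4, hz2, mul_assoc, cs.simple_mul_simple_self, mul_one]

end Iso

/-! ### The action on `S / P_J` -/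

section Act

variable {I W S : Type*} [Fintype I] [DecidableEq I] [Group W] [Group S] {M : CoxeterMatrix I}
  {cs : CoxeterSystem M W} {A : I → I → ℤ} {h : IsCartan M A} {r : ℕ} {T : Subgroup S} {n : I → S}
  {X : (I → ℤ) → Subgroup S} [Finite W] [Finite S] [Fact r.Prime] (R : RGD cs h r T n X) (hG : GG cs h T X = ⊤)

theorem act_injective (a : MulAut S) : Function.Injective (act R hG a) := by
  intro x y hxy
  have h1 := act_mul (R := R) (hG := hG) a⁻¹ a x
  have h2 := act_mul (R := R) (hG := hG) a⁻¹ a y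
  rw [inv_mul_cancel, act_one] at h1 h2
  rw [h1, h2, hxy]

theorem act_iso (Δ : Bldg cs (S ⧸ RGD.B cs h T X))
    (hδ : ∀ (a b k : S) (w : W), Rp cs R.nsys w k → (Δ.δ (QuotientGroup.mk a) (QuotientGroup.mk b) = w ↔
        ∃ b₁ ∈ RGD.B cs h T X, ∃ b₂ ∈ RGD.B cs h T X, a⁻¹ * b = b₁ * k * b₂)) {a : MulAut S}
    (ha : typHom R hG a = 1) (x y : S ⧸ RGD.B cs h T X) :
    Δ.δ (act R hG a x) (act R hG a y) = Δ.δ x y := by
  refine iso_of_panel Δ (act R hG a) (fun i x y hxy => ?_) x y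
  have h1 : Δ.δ x y ∈ WJ cs (({i} : Finset I) : Set I) := by
    rw [hxy]
    exact Subgroup.subset_closure ⟨i, by simp, rfl⟩
  have h2 := (rel_iff R hG Δ hδ a {i} x y).1 h1
  rw [ha, Finset.map_singleton, Finset.coe_singleton] at h2
  rcases H726.CY.mem_WJ_singleton h2 with h3 | h3
  · exfalso
    have h4 := act_injective R hG a ((Δ.eq_one _ _).1 h3)
    rw [h4, (Δ.eq_one _ _).2 rfl] at hxy
    have h6 := cs.length_simple i
    rw [← hxy, cs.length_one] at h6
    exact zero_ne_one h6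
  · exact h3

variable (ht : ∀ a : MulAut S, typHom R hG a = 1) (J : Set I)

/-- the action of an automorphism on the cosets of `P_J` -/
noncomputable def actJ (a : MulAut S) : S ⧸ PJ cs h T X J → S ⧸ PJ cs h T X J :=
  Quotient.map' (s₁ := QuotientGroup.leftRel (PJ cs h T X J)) (s₂ := QuotientGroup.leftRel (PJ cs h T X J))
    (fun x => a x * gel R hG a) (by
      intro x y hxy
      rw [QuotientGroup.leftRel_apply] at hxy ⊢
      have h1 := (gel_spec R hG a J (x⁻¹ * y)).2 hxy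
      have h2 : typ R hG a = 1 := ht a
      rw [h2, Equiv.Perm.coe_one, Set.image_id] at h1
      have e : (a x * gel R hG a)⁻¹ * (a y * gel R hG a) = (gel R hG a)⁻¹ * a (x⁻¹ * y) * gel R hG a := by
        rw [map_mul, map_inv]; group
      rw [e]
      exact h1)

theorem actJ_mk (a : MulAut S) (x : S) :
    actJ R hG ht J a (QuotientGroup.mk x) = QuotientGroup.mk (a x * gel R hG a) := rfl

theorem actJ_mk_of {a : MulAut S} {g : S} {σ : Equiv.Perm I} (hg : Gel cs h T X a g σ) (x : S) :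
    actJ R hG ht J a (QuotientGroup.mk x) = QuotientGroup.mk (a x * g) := by
  rw [actJ_mk, QuotientGroup.eq]
  have e : (a x * gel R hG a)⁻¹ * (a x * g) = (gel R hG a)⁻¹ * g := by group
  rw [e]
  exact B_le_PJ (Gel.unique R hG (gel_spec R hG a) hg).1

theorem actJ_mul (a b : MulAut S) (x : S ⧸ PJ cs h T X J) :
    actJ R hG ht J (a * b) x = actJ R hG ht J a (actJ R hG ht J b x) := by
  induction x using QuotientGroup.induction_on with
  | _ x =>
    rw [actJ_mk_of R hG ht J ((gel_spec R hG a).mul (gel_spec R hG b)), actJ_mk, actJ_mk, map_mul, mul_assoc]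
    rfl

theorem actJ_conj (s : S) (x : S ⧸ PJ cs h T X J) : actJ R hG ht J (MulAut.conj s) x = s • x := by
  induction x using QuotientGroup.induction_on with
  | _ x =>
    rw [actJ_mk_of R hG ht J (Gel.conj s)]
    show (QuotientGroup.mk (MulAut.conj s x * s) : S ⧸ PJ cs h T X J) = QuotientGroup.mk (s * x)
    rw [MulAut.conj_apply]
    congr 1
    group

theorem actJ_one (x : S ⧸ PJ cs h T X J) : actJ R hG ht J 1 x = x := by
  have h1 := actJ_conj R hG ht J (1 : S) x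
  rwa [map_one, one_smul] at h1

/-- the action of the automorphism group on the cosets of `P_J` -/
@[implicit_reducible]
noncomputable def mactJ : MulAction (MulAut S) (S ⧸ PJ cs h T X J) where
  smul a x := actJ R hG ht J a x
  one_smul x := actJ_one R hG ht J x
  mul_smul a b x := actJ_mul R hG ht J a b x

/-- the projection -/
def prJ : S ⧸ RGD.B cs h T X → S ⧸ PJ cs h T X J := Subgroup.quotientMapOfLE B_le_PJ

theorem prJ_mk (x : S) : prJ (cs := cs) (h := h) (T := T) (X := X) J (QuotientGroup.mk x) = QuotientGroup.mk x := rfl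

theorem prJ_surjective : Function.Surjective (prJ (cs := cs) (h := h) (T := T) (X := X) J) := by
  intro x
  induction x using QuotientGroup.induction_on with
  | _ x => exact ⟨QuotientGroup.mk x, rfl⟩

theorem prJ_act (a : MulAut S) (x : S ⧸ RGD.B cs h T X) :
    prJ J (act R hG a x) = actJ R hG ht J a (prJ J x) := by
  induction x using QuotientGroup.induction_on with
  | _ x => rfl

theorem prJ_smul (s : S) (x : S ⧸ RGD.B cs h T X) :
    prJ (cs := cs) (h := h) (T := T) (X := X) J (s • x) = s • prJ J x := by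
  induction x using QuotientGroup.induction_on with
  | _ x => rfl

include R in
theorem prJ_eq_iff (Δ : Bldg cs (S ⧸ RGD.B cs h T X))
    (hδ : ∀ (a b k : S) (w : W), Rp cs R.nsys w k → (Δ.δ (QuotientGroup.mk a) (QuotientGroup.mk b) = w ↔
        ∃ b₁ ∈ RGD.B cs h T X, ∃ b₂ ∈ RGD.B cs h T X, a⁻¹ * b = b₁ * k * b₂)) (x y : S ⧸ RGD.B cs h T X) :
    prJ J x = prJ J y ↔ Δ.δ x y ∈ WJ cs J := by
  induction x using QuotientGroup.induction_on with
  | _ x =>
  induction y using QuotientGroup.induction_on with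
  | _ y =>
    rw [H114.StRGD.mem_WJ_iff R Δ hδ, prJ_mk, prJ_mk, QuotientGroup.eq]

/-- **the automorphisms preserve the orbitals** -/
theorem orb_J (Δ : Bldg cs (S ⧸ RGD.B cs h T X))
    (htr : ∀ x y x' y' : S ⧸ RGD.B cs h T X, Δ.δ x y = Δ.δ x' y' → ∃ g : S, g • x = x' ∧ g • y = y')
    (hδ : ∀ (a b k : S) (w : W), Rp cs R.nsys w k → (Δ.δ (QuotientGroup.mk a) (QuotientGroup.mk b) = w ↔
        ∃ b₁ ∈ RGD.B cs h T X, ∃ b₂ ∈ RGD.B cs h T X, a⁻¹ * b = b₁ * k * b₂)) (a : MulAut S)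
    (x y : S ⧸ PJ cs h T X J) : ∃ s : S, s • x = actJ R hG ht J a x ∧ s • y = actJ R hG ht J a y := by
  obtain ⟨x, rfl⟩ := prJ_surjective J x
  obtain ⟨y, rfl⟩ := prJ_surjective J y
  obtain ⟨g, hg1, hg2⟩ := htr _ _ _ _ (act_iso R hG Δ hδ (ht a) x y).symm
  refine ⟨g, ?_, ?_⟩
  · rw [← prJ_smul, hg1, prJ_act R hG ht J]
  · rw [← prJ_smul, hg2, prJ_act R hG ht J]

variable {Q₀ : Subgroup S} (hQT : Q₀ ≤ T) (hC : Subgroup.centralizer (Q₀ : Set S) ≤ T)

include R hG hQT hC in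
/-- **the points of `S / P_J` fixed by `Q₀`** -/
theorem exists_of_fixedJ [Fintype (S ⧸ RGD.B cs h T X)] (Δ : Bldg cs (S ⧸ RGD.B cs h T X))
    (hiso : ∀ (g : S) (x y : S ⧸ RGD.B cs h T X), Δ.δ (g • x) (g • y) = Δ.δ x y)
    (hδ : ∀ (a b k : S) (w : W), Rp cs R.nsys w k → (Δ.δ (QuotientGroup.mk a) (QuotientGroup.mk b) = w ↔
        ∃ b₁ ∈ RGD.B cs h T X, ∃ b₂ ∈ RGD.B cs h T X, a⁻¹ * b = b₁ * k * b₂)) (J : Finset I)
    {z : S ⧸ PJ cs h T X (J : Set I)} (hz : ∀ q ∈ Q₀, q • z = z) :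
    ∃ w k, Rp cs R.nsys w k ∧ z = prJ (J : Set I) (QuotientGroup.mk k) := by
  classical
  obtain ⟨x, rfl⟩ := prJ_surjective (J : Set I) z
  have hT : J ⊆ (Finset.univ : Finset I) := Finset.subset_univ _
  set c : S ⧸ RGD.B cs h T X := QuotientGroup.mk 1 with hc
  set Sy := bSys Δ c with hSy
  have heq := Sy.equiv J hT
  have h1 := Sy.gt_rel hT x
  have h2 : J ⊆ Sy.N (Sy.gt hT x : S ⧸ RGD.B cs h T X) := (Sy.gt hT x).2
  have hfix : ∀ q ∈ Q₀, q • (Sy.gt hT x : S ⧸ RGD.B cs h T X) = (Sy.gt hT x : S ⧸ RGD.B cs h T X) := by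
    intro q hq
    refine Sy.gate_unique hT ?_ h2 ?_
    · intro i hi
      have h3 := (mem_N_bSys Δ c _ i).1 (h2 hi)
      refine (mem_N_bSys Δ c _ i).2 ?_
      have h4' : q • c = c := H726.CY.fixed_mk R hQT rp_one hq
      have h4 : Δ.δ c (q • (Sy.gt hT x : S ⧸ RGD.B cs h T X)) = Δ.δ c (Sy.gt hT x : S ⧸ RGD.B cs h T X) := by
        have h5 := hiso q c (Sy.gt hT x : S ⧸ RGD.B cs h T X)
        rwa [h4'] at h5
      rw [h4]
      exact h3
    · have h5 : Sy.r J (q • x) (q • (Sy.gt hT x : S ⧸ RGD.B cs h T X)) := by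
        rw [hSy, r_bSys] at h1 ⊢
        rw [hiso]
        exact h1
      have h6 : Sy.r J x (q • x) := by
        rw [hSy, r_bSys, ← prJ_eq_iff R (J : Set I) Δ hδ, prJ_smul, hz q hq]
      exact heq.trans (heq.symm h5) (heq.trans (heq.symm h6) h1)
  obtain ⟨w, k, hk, e⟩ := H726.CY.exists_of_fixed R hQT hC hG hfix
  refine ⟨w, k, hk, ?_⟩
  rw [prJ_eq_iff R (J : Set I) Δ hδ, ← e]
  rw [hSy, r_bSys] at h1
  exact h1

end Act

/-! ### The count -/

section Cnt

universe v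

theorem two_mul_cnt {G : Type u} [Group G] {Ω : Type v} [Finite Ω] [MulAction G Ω] (P : Subgroup G) {a : G}
    (ha : a ∈ Subgroup.centralizer (P : Set G)) (hno : ∀ x : Ω, (∀ g ∈ P, g • x = x) → a • x ≠ x)
    (hcl : ∀ c ∈ Subgroup.centralizer (P : Set G), ∀ x : Ω, (∀ g ∈ P, g • x = x) → c • x = x ∨ c • x = a • x) :
    2 * H145.BR.cnt P Ω = Nat.card {x : Ω // ∀ g ∈ P, g • x = x} := by
  classical
  have hmem : ∀ x : {x : Ω // ∀ g ∈ P, g • x = x}, ∀ g ∈ P, g • a • (x : Ω) = a • (x : Ω) := by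
    intro x g hg
    rw [smul_smul, Subgroup.mem_centralizer_iff.1 ha g hg, mul_smul, x.2 g hg]
  let f : {x : Ω // ∀ g ∈ P, g • x = x} → {x : Ω // ∀ g ∈ P, g • x = x} := fun x => ⟨a • (x : Ω), hmem x⟩
  have hne : ∀ x, f x ≠ x := fun x hx => hno x x.2 (congrArg Subtype.val hx)
  let rel : {x : Ω // ∀ g ∈ P, g • x = x} → {x : Ω // ∀ g ∈ P, g • x = x} → Prop :=
    fun x y => ∃ c ∈ Subgroup.centralizer (P : Set G), c • x.1 = y.1
  have heq : Equivalence rel := by
    refine ⟨fun x => ⟨1, one_mem _, one_smul G _⟩, ?_, ?_⟩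
    · rintro x y ⟨c, hc, e⟩
      exact ⟨c⁻¹, inv_mem hc, by rw [← e, inv_smul_smul]⟩
    · rintro x y z ⟨c, hc, e⟩ ⟨d, hd, e'⟩
      exact ⟨d * c, mul_mem hd hc, by rw [mul_smul, e, e']⟩
  have hrel : ∀ x y, rel x y ↔ y = x ∨ y = f x := by
    intro x y
    constructor
    · rintro ⟨c, hc, e⟩
      rcases hcl c hc x x.2 with h | h
      · exact Or.inl (Subtype.ext (e.symm.trans h))
      · exact Or.inr (Subtype.ext (e.symm.trans h))
    · rintro (rfl | rfl)
      · exact ⟨1, one_mem _, one_smul G _⟩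
      · exact ⟨a, ha, rfl⟩
  have hmk : ∀ x y, Quot.mk rel x = Quot.mk rel y → (y = x ∨ y = f x) := fun x y hxy =>
    (hrel x y).1 (Quotient.exact (s := ⟨rel, heq⟩) hxy)
  let F : Quot rel × Bool → {x : Ω // ∀ g ∈ P, g • x = x} := fun z => if z.2 then f (Quot.out z.1) else Quot.out z.1
  have hF0 : ∀ z, F (z, false) = Quot.out z := fun z => rfl
  have hF1 : ∀ z, F (z, true) = f (Quot.out z) := fun z => rfl
  have hF : ∀ z, Quot.mk rel (F z) = z.1 := by
    rintro ⟨z, b⟩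
    cases b
    · rw [hF0]
      exact Quot.out_eq z
    · rw [hF1]
      refine Eq.trans ?_ (Quot.out_eq z)
      exact (Quot.sound ((hrel _ _).2 (Or.inr rfl))).symm
  have hbij : Function.Bijective F := by
    constructor
    · rintro ⟨z, b⟩ ⟨z', b'⟩ h
      have h1 : z = z' := (hF ⟨z, b⟩).symm.trans ((congrArg (Quot.mk rel) h).trans (hF ⟨z', b'⟩))
      subst h1
      cases b <;> cases b'
      · rfl
      · rw [hF0, hF1] at h
        exact absurd h.symm (hne _)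
      · rw [hF0, hF1] at h
        exact absurd h (hne _)
      · rfl
    · intro y
      have h1 : Quot.mk rel (Quot.out (Quot.mk rel y)) = Quot.mk rel y := Quot.out_eq _
      rcases hmk _ _ h1 with h2 | h2
      · exact ⟨(Quot.mk rel y, false), by rw [hF0]; exact h2.symm⟩
      · exact ⟨(Quot.mk rel y, true), by rw [hF1]; exact h2.symm⟩
  have h1 := Nat.card_congr (Equiv.ofBijective F hbij)
  rw [Nat.card_prod, Nat.card_eq_fintype_card (α := Bool), Fintype.card_bool, mul_comm] at h1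
  exact h1

end Cnt

/-! ### The row -/

section Main

variable {I W : Type*} {S : Type u} [Fintype I] [DecidableEq I] [Group W] [Group S] {M : CoxeterMatrix I}
  {cs : CoxeterSystem M W} {A : I → I → ℤ} {h : IsCartan M A} {r : ℕ} {T : Subgroup S} {n : I → S}
  {X : (I → ℤ) → Subgroup S} [Finite W] [Fintype S] [Fact r.Prime] (R : RGD cs h r T n X) (hG : GG cs h T X = ⊤)

/-- `a` acts on the apartment by the right multiplication by `w` -/
def Wt (a : MulAut S) (w : W) : Prop := ∀ v k, Rp cs R.nsys v k → ∃ k', Rp cs R.nsys (v * w) k' ∧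
  act R hG a (QuotientGroup.mk k) = QuotientGroup.mk k'

theorem dist_rp {Δ : Bldg cs (S ⧸ RGD.B cs h T X)}
    (hδ : ∀ (a b k : S) (w : W), Rp cs R.nsys w k → (Δ.δ (QuotientGroup.mk a) (QuotientGroup.mk b) = w ↔
        ∃ b₁ ∈ RGD.B cs h T X, ∃ b₂ ∈ RGD.B cs h T X, a⁻¹ * b = b₁ * k * b₂)) {v v' : W} {k k' : S}
    (hk : Rp cs R.nsys v k) (hk' : Rp cs R.nsys v' k') :
    Δ.δ (QuotientGroup.mk k) (QuotientGroup.mk k') = v⁻¹ * v' := by
  rw [hδ _ _ _ _ (hk.inv.mul hk')]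
  exact ⟨1, one_mem _, 1, one_mem _, by group⟩

theorem comm_of_Wt {Δ : Bldg cs (S ⧸ RGD.B cs h T X)}
    (hδ : ∀ (a b k : S) (w : W), Rp cs R.nsys w k → (Δ.δ (QuotientGroup.mk a) (QuotientGroup.mk b) = w ↔
        ∃ b₁ ∈ RGD.B cs h T X, ∃ b₂ ∈ RGD.B cs h T X, a⁻¹ * b = b₁ * k * b₂)) {a : MulAut S} {w : W}
    (ht : typHom R hG a = 1) (hw : Wt R hG a w) (i : I) : w⁻¹ * cs.simple i * w = cs.simple i := by
  obtain ⟨k1, hk1, e1⟩ := hw 1 1 rp_one
  obtain ⟨k2, hk2, e2⟩ := hw (cs.simple i) (n i) (rp_simple cs R.nsys i)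
  have h1 := act_iso R hG Δ hδ ht (QuotientGroup.mk 1) (QuotientGroup.mk (n i))
  rw [e1, e2, dist_rp R hδ hk1 hk2, dist_rp R hδ rp_one (rp_simple cs R.nsys i), one_mul, inv_one, one_mul,
    ← mul_assoc] at h1
  exact h1

/-- the values of the extended Steinberg character at the elements which act trivially on the apartment -/
theorem cnt_of_one [Fintype (S ⧸ RGD.B cs h T X)] {Δ : Bldg cs (S ⧸ RGD.B cs h T X)}
    (hiso : ∀ (g : S) (x y : S ⧸ RGD.B cs h T X), Δ.δ (g • x) (g • y) = Δ.δ x y)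
    {p : ℕ} [Fact p.Prime] {Q₀ : Subgroup S} (hQ : IsPGroup p Q₀) (hQT : Q₀ ≤ T)
    (hC : Subgroup.centralizer (Q₀ : Set S) ≤ T) {a : MulAut S} (ha : ∀ q ∈ Q₀, a q = q) (ht : typHom R hG a = 1)
    (hw : Wt R hG a 1) : cnt R hG Δ a ≡ cnt R hG Δ 1 [ZMOD p] := by
  classical
  have hc1 : ∀ q ∈ Q₀, q • (QuotientGroup.mk 1 : S ⧸ RGD.B cs h T X) = QuotientGroup.mk 1 := fun q hq =>
    H726.CY.fixed_mk R hQT rp_one hq
  have hcomm : ∀ b : MulAut S, (∀ q ∈ Q₀, b q = q) → ∀ q ∈ Q₀, ∀ x, act R hG b (q • x) = q • act R hG b x :=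
    fun b hb q hq x => H726.CY.act_smul' R hG (hb q hq) x
  rw [H726.CY.cnt_eq, H726.CY.cnt_eq, ht, map_one]
  refine sum_modEq Finset.univ fun U _ => ?_
  refine Int.ModEq.mul_left _ ?_
  rw [Int.natCast_modEq_iff]
  refine (H726.CY.card_modEq Δ hiso (QuotientGroup.mk 1) (act R hG a) hQ (hcomm a ha) hc1).trans
    (Nat.ModEq.trans ?_ (H726.CY.card_modEq Δ hiso (QuotientGroup.mk 1) (act R hG 1) hQ (hcomm 1 fun q _ => rfl) hc1).symm)
  refine H726.CY.modEq_of_eq (Nat.card_congr (Equiv.subtypeEquivRight fun x => ?_))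
  refine and_congr_right fun hx => and_congr_right fun _ => ?_
  obtain ⟨v, k, hk, rfl⟩ := H726.CY.exists_of_fixed R hQT hC hG hx
  obtain ⟨k', hk', e⟩ := hw v k hk
  rw [mul_one] at hk'
  have h1 : (QuotientGroup.mk k' : S ⧸ RGD.B cs h T X) = QuotientGroup.mk k := by
    rw [eq_comm, QuotientGroup.eq]
    exact RGD.T_le_B (hk.unique hk')
  rw [e, h1, act_one]

variable (ht : ∀ a : MulAut S, typHom R hG a = 1)

theorem actJ_eq (J : Set I) {a b : MulAut S} {w : W} (ha : Wt R hG a w) (hb : Wt R hG b w) {v : W} {k : S}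
    (hk : Rp cs R.nsys v k) : actJ R hG ht J a (prJ J (QuotientGroup.mk k)) = actJ R hG ht J b (prJ J (QuotientGroup.mk k)) := by
  obtain ⟨k1, hk1, e1⟩ := ha v k hk
  obtain ⟨k2, hk2, e2⟩ := hb v k hk
  rw [← prJ_act R hG ht J, ← prJ_act R hG ht J, e1, e2]
  have h1 : (QuotientGroup.mk k1 : S ⧸ RGD.B cs h T X) = QuotientGroup.mk k2 := by
    rw [QuotientGroup.eq]
    exact RGD.T_le_B (hk1.unique hk2)
  rw [h1]

theorem actJ_eq_one (J : Set I) {a : MulAut S} (ha : Wt R hG a 1) {v : W} {k : S}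
    (hk : Rp cs R.nsys v k) : actJ R hG ht J a (prJ J (QuotientGroup.mk k)) = prJ J (QuotientGroup.mk k) := by
  obtain ⟨k1, hk1, e1⟩ := ha v k hk
  rw [mul_one] at hk1
  rw [← prJ_act R hG ht J, e1]
  have h1 : (QuotientGroup.mk k1 : S ⧸ RGD.B cs h T X) = QuotientGroup.mk k := by
    rw [eq_comm, QuotientGroup.eq]
    exact RGD.T_le_B (hk.unique hk1)
  rw [h1]

theorem actJ_ne {Δ : Bldg cs (S ⧸ RGD.B cs h T X)}
    (hδ : ∀ (a b k : S) (w : W), Rp cs R.nsys w k → (Δ.δ (QuotientGroup.mk a) (QuotientGroup.mk b) = w ↔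
        ∃ b₁ ∈ RGD.B cs h T X, ∃ b₂ ∈ RGD.B cs h T X, a⁻¹ * b = b₁ * k * b₂)) {J : Set I} {a : MulAut S} {w : W}
    (ha : Wt R hG a w) (hw : w ∉ WJ cs J) {v : W} {k : S}
    (hk : Rp cs R.nsys v k) : actJ R hG ht J a (prJ J (QuotientGroup.mk k)) ≠ prJ J (QuotientGroup.mk k) := by
  obtain ⟨k1, hk1, e1⟩ := ha v k hk
  rw [← prJ_act R hG ht J, e1, ne_eq, eq_comm, prJ_eq_iff R J Δ hδ, dist_rp R hδ hk hk1, inv_mul_cancel_left]
  exact hw

include ht in
/-- **the permutation character on `S / P_J`**, if some `a` acts nontrivially on the apartment -/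
theorem wit_perm [IsSimpleGroup S] (hnc : ¬ IsMulCommutative S)
    (hconn : ∀ D : Set I, D.Nonempty → Dᶜ.Nonempty → ∃ i ∈ D, ∃ j ∈ Dᶜ, M i j ≠ 2)
    {p : ℕ} [hp : Fact p.Prime] {Q₀ : Subgroup S} (hQT : Q₀ ≤ T)
    (hQn : ∀ v k, Rp cs R.nsys v k → ∀ q ∈ Q₀, k * q * k⁻¹ ∈ Q₀)
    (hC : Subgroup.centralizer (Q₀ : Set S) ≤ T) {J : Finset I} (hJ : J ≠ Finset.univ)
    (hcyc : ∀ θ : IrrCharacter S, classInner (fixedPointCharacter (PJ cs h T X (J : Set I))) (θ : S → ℂ) ≠ 0 →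
      Cyc p (θ : S → ℂ)) (hN : ¬ (PJ cs h T X (J : Set I)).index ≡ 2 [MOD p]) {M' : Ideal AlgInt} (hM : IsPModular p M')
    {A' : Subgroup (MulAut S)} (hA : Amb p S A') {Q₁ : Sylow p S} (hQ₁ : Q₀ ≤ Q₁) {a : MulAut S} (haA : a ∈ A')
    (hap : ¬ p ∣ orderOf a) (haQ : ∀ q ∈ Q₁, a q = q) {w : W} (hw1 : w ≠ 1) (hw : Wt R hG a w) :
    ∃ Ψ : A' → ℂ, WitA p M' S A' hA.1 Ψ := by
  classical
  obtain ⟨Y, hYA, hSY, hn, hpY, k, hk⟩ := hA.2
  have haY : a ∈ Y := H598.CY.reg_mem hn hk ⟨a, haA⟩ (by rwa [Subgroup.orderOf_mk])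
  obtain ⟨Δ, hiso, htr, hδ⟩ := H167.SteinbergRGD.exists_bldg R (hgen_of_GG R hG)
  have hfi : Fintype (S ⧸ RGD.B cs h T X) := Fintype.ofFinite _
  let _ : MulAction (MulAut S) (S ⧸ PJ cs h T X (J : Set I)) := mactJ R hG ht (J : Set I)
  have hact : ∀ (b : MulAut S) (x : S ⧸ PJ cs h T X (J : Set I)), b • x = actJ R hG ht (J : Set I) b x :=
    fun b x => rfl
  -- the Sylow subgroup
  have hiY : Function.Injective (H598.CY.inn hSY) := H598.CY.inn_injective hnc hSY
  have hidx : ¬ p ∣ ((Q₁ : Subgroup S).map (H598.CY.inn hSY)).index := by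
    rw [Subgroup.index_map, (MonoidHom.ker_eq_bot_iff (H598.CY.inn hSY)).2 hiY, sup_bot_eq]
    intro h
    rcases hp.out.dvd_mul.1 h with h | h
    · exact Q₁.not_dvd_index h
    · exact H598.CY.idx_not_dvd hSY hpY h
  let P : Sylow p Y := (Q₁.2.map (H598.CY.inn hSY)).toSylow hidx
  have hP : (P : Subgroup Y) = (Q₁ : Subgroup S).map (H598.CY.inn hSY) := rfl
  refine H598.CY.witA_of_orbX (Ω := S ⧸ PJ cs h T X (J : Set I)) hnc hM hA.1 Y hYA hSY hn hpY hk (fun x w => rfl)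
    ?_ ?_ ?_ P ?_
  · intro x y
    obtain ⟨s, hs⟩ := MulAction.exists_smul_eq S x y
    refine ⟨s, ?_⟩
    show actJ R hG ht (J : Set I) (MulAut.conj s) x = y
    rw [actJ_conj, hs]
  · intro b x y
    obtain ⟨s, hs1, hs2⟩ := orb_J R hG ht (J : Set I) Δ htr hδ (b : MulAut S) x y
    refine ⟨s, ?_, ?_⟩
    · show actJ R hG ht (J : Set I) (MulAut.conj s) x = actJ R hG ht (J : Set I) b x
      rw [actJ_conj, hs1]
    · show actJ R hG ht (J : Set I) (MulAut.conj s) y = actJ R hG ht (J : Set I) b y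
      rw [actJ_conj, hs2]
  · intro θ hθ
    refine hcyc θ ?_
    have e : (fun s : S => H145.BR.permC A' (S ⧸ PJ cs h T X (J : Set I)) (H598.CY.inn hA.1 s)) =
        fixedPointCharacter (PJ cs h T X (J : Set I)) := by
      funext s
      unfold H145.BR.permC fixedPointCharacter
      have e2 : MulAction.fixedBy (S ⧸ PJ cs h T X (J : Set I)) (H598.CY.inn hA.1 s) =
          MulAction.fixedBy (S ⧸ PJ cs h T X (J : Set I)) s := by
        ext x
        rw [MulAction.mem_fixedBy, MulAction.mem_fixedBy]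
        show actJ R hG ht (J : Set I) (MulAut.conj s) x = x ↔ s • x = x
        rw [actJ_conj]
      rw [e2]
    rwa [← e]
  · -- the fixed points of `P`
    have hfixP : ∀ x : S ⧸ PJ cs h T X (J : Set I), (∀ g ∈ (P : Subgroup Y), g • x = x) →
        ∃ v k, Rp cs R.nsys v k ∧ x = prJ (J : Set I) (QuotientGroup.mk k) := by
      intro x hx
      refine exists_of_fixedJ R hG hQT hC Δ hiso hδ J fun q hq => ?_
      have h1 := hx (H598.CY.inn hSY q) (by rw [hP]; exact ⟨q, hQ₁ hq, rfl⟩)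
      have h2 : actJ R hG ht (J : Set I) (MulAut.conj q) x = x := h1
      rwa [actJ_conj] at h2
    have hcent : ∀ c : Y, c ∈ Subgroup.centralizer ((P : Subgroup Y) : Set Y) → ∀ q ∈ Q₀, (c : MulAut S) q = q := by
      intro c hc q hq
      have h1 : H598.CY.inn hSY q * c = c * H598.CY.inn hSY q := (Subgroup.mem_centralizer_iff.1 hc) _ (by
        show H598.CY.inn hSY q ∈ (P : Subgroup Y)
        rw [hP]
        exact ⟨q, hQ₁ hq, rfl⟩)
      have h2 : MulAut.conj q * (c : MulAut S) = (c : MulAut S) * MulAut.conj q := congrArg Subtype.val h1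
      apply H598.CY.conj_injective hnc
      have h3 : MulAut.conj ((c : MulAut S) q) = (c : MulAut S) * MulAut.conj q * (c : MulAut S)⁻¹ := by
        ext z
        simp [MulAut.conj_apply]
      rw [h3, ← h2, mul_inv_cancel_right]
    have haC : (⟨a, haY⟩ : Y) ∈ Subgroup.centralizer ((P : Subgroup Y) : Set Y) := by
      rw [Subgroup.mem_centralizer_iff]
      intro g hg
      have hg' : g ∈ (Q₁ : Subgroup S).map (H598.CY.inn hSY) := hg
      obtain ⟨q, hq, rfl⟩ := hg'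
      apply Subtype.ext
      show MulAut.conj q * a = a * MulAut.conj q
      ext y
      simp only [MulAut.mul_apply, MulAut.conj_apply, map_mul, map_inv, haQ q hq]
    have hcomm := comm_of_Wt R hG hδ (ht a) hw
    have hwJ : w ∉ WJ cs (J : Set I) := by
      rcases H726.CY.eq_one_or h hconn (σ := id) hcomm with h1 | h1
      · exact absurd h1 hw1
      · exact h1 _ fun h2 => hJ (Finset.coe_eq_univ.1 h2)
    have h2 := two_mul_cnt (Ω := S ⧸ PJ cs h T X (J : Set I)) (P : Subgroup Y) haC (by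
      intro x hx
      obtain ⟨v, k, hk, rfl⟩ := hfixP x hx
      exact actJ_ne R hG ht hδ hw hwJ hk) (by
      intro c hc x hx
      obtain ⟨v, k, hk, rfl⟩ := hfixP x hx
      obtain ⟨wc, hwc⟩ := H726.CY.exists_right R hQT hC hG hQn (hcent c hc)
      have hwc' : Wt R hG c wc := hwc
      by_cases hc1 : wc = 1
      · subst hc1
        exact Or.inl (actJ_eq_one R hG ht _ hwc' hk)
      · right
        have h3 := eq_of_comm hconn h hcomm (comm_of_Wt R hG hδ (ht c) hwc') hw1 hc1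
        rw [h3] at hwc'
        exact actJ_eq R hG ht _ hwc' hw hk)
    have h3 := P.2.card_modEq_card_fixedPoints (S ⧸ PJ cs h T X (J : Set I))
    have h4 : Nat.card (MulAction.fixedPoints P (S ⧸ PJ cs h T X (J : Set I))) =
        Nat.card {x : S ⧸ PJ cs h T X (J : Set I) // ∀ g ∈ (P : Subgroup Y), g • x = x} :=
      Nat.card_congr (Equiv.subtypeEquivRight fun x => ⟨fun hx g hg => hx ⟨g, hg⟩, fun hx g => hx g g.2⟩)
    rw [h4, ← h2] at h3
    intro h5
    exact hN (h3.trans ((h5.mul_left 2).trans (H726.CY.modEq_of_eq (mul_one 2))))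

/-- **The row**: a regular `p`-subgroup `Q₀` of the torus, a connected diagram without symmetries, `|S : P_J|` is not `2`
modulo `p` -/
theorem rowA_torus_J [IsSimpleGroup S] [Nonempty I] (hnc : ¬ IsMulCommutative S)
    (hconn : ∀ D : Set I, D.Nonempty → Dᶜ.Nonempty → ∃ i ∈ D, ∃ j ∈ Dᶜ, M i j ≠ 2)
    (ht : ∀ a : MulAut S, typHom R hG a = 1)
    {p : ℕ} [hp : Fact p.Prime] {Q₀ : Subgroup S} (hQ : IsPGroup p Q₀) (hQT : Q₀ ≤ T)
    (hQn : ∀ v k, Rp cs R.nsys v k → ∀ q ∈ Q₀, k * q * k⁻¹ ∈ Q₀)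
    (hC : Subgroup.centralizer (Q₀ : Set S) ≤ T) {J : Finset I} (hJ : J ≠ Finset.univ)
    (hcyc : ∀ θ : IrrCharacter S, classInner (fixedPointCharacter (PJ cs h T X (J : Set I))) (θ : S → ℂ) ≠ 0 →
      Cyc p (θ : S → ℂ)) (hN : ¬ (PJ cs h T X (J : Set I)).index ≡ 2 [MOD p]) : RowA p S := by
  classical
  intro A' hA M' hM
  obtain ⟨Q₁, hQ₁⟩ := hQ.exists_le_sylow
  by_cases hB : ∃ a ∈ A', ¬ p ∣ orderOf a ∧ (∀ q ∈ Q₁, a q = q) ∧ ∃ w : W, w ≠ 1 ∧ Wt R hG a w
  · obtain ⟨a, haA, hap, haQ, w, hw1, hw⟩ := hB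
    exact wit_perm R hG ht hnc hconn hQT hQn hC hJ hcyc hN hM hA hQ₁ haA hap haQ hw1 hw
  · push Not at hB
    obtain ⟨_, Δ, hiso, hδ, h1, h2, h3⟩ := H726.CY.exists_ext R hG ((MulAut.conj : S →* MulAut S).codRestrict A' hA.1)
      A'.subtype (fun _ => rfl)
    have hU := H726.CY.card_U_modEq R hQ hQT hC
    refine ⟨_, H726.CY.witA_of_int hM hA.1 (H726.CY.ev R hG Δ) h1 h2 h3 (H726.CY.card_U_ne_one R) ?_ ?_⟩
    · intro hd
      have h4 := (Nat.modEq_zero_iff_dvd.2 hd).symm.trans hU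
      have h5 := (Nat.modEq_zero_iff_dvd.1 h4.symm)
      exact hp.out.one_lt.ne' (Nat.dvd_one.1 h5)
    · rintro a ha hap ⟨Q, hQa⟩
      -- conjugate `Q` to `Q₁`
      obtain ⟨g, hg⟩ := MulAction.exists_smul_eq S Q Q₁
      have hb : ∀ q ∈ Q₁, (MulAut.conj g * a * (MulAut.conj g)⁻¹) q = q := by
        intro q hq
        have h4 : q ∈ ((g • Q : Sylow p S) : Subgroup S) := by
          rw [hg]
          exact hq
        rw [Sylow.coe_subgroup_smul, Subgroup.mem_pointwise_smul_iff_inv_smul_mem] at h4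
        have h5 : a (g⁻¹ * q * g) = g⁻¹ * q * g := by
          refine hQa _ ?_
          have e : g⁻¹ * q * g = (MulAut.conj g)⁻¹ • q := by
            rw [← map_inv]
            show g⁻¹ * q * g = MulAut.conj g⁻¹ q
            rw [MulAut.conj_apply, inv_inv]
          rw [e]
          exact h4
        have e1 : (MulAut.conj g * a * (MulAut.conj g)⁻¹) q = g * a (g⁻¹ * q * g) * g⁻¹ := by
          rw [← map_inv, MulAut.mul_apply, MulAut.mul_apply, MulAut.conj_apply, MulAut.conj_apply, inv_inv]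
        rw [e1, h5]
        group
      have h4 : H726.CY.ev R hG Δ (MulAut.conj g * a * (MulAut.conj g)⁻¹) = H726.CY.ev R hG Δ a := by
        have h5 := Characters.Core.isIrr_isClassFunction h1 ⟨a, ha⟩ ⟨MulAut.conj g, hA.1 g⟩
        exact_mod_cast h5
      rw [← h4]
      set b : MulAut S := MulAut.conj g * a * (MulAut.conj g)⁻¹ with hbdef
      have hbA : b ∈ A' := mul_mem (mul_mem (hA.1 g) ha) (inv_mem (hA.1 g))
      have hbp : ¬ p ∣ orderOf b := by
        rw [hbdef, ← MulAut.conj_apply, MulEquiv.orderOf_eq]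
        exact hap
      have hbQ₀ : ∀ q ∈ Q₀, b q = q := fun q hq => hb q (hQ₁ hq)
      obtain ⟨w, hw⟩ := H726.CY.exists_right R hQT hC hG hQn hbQ₀
      have hw1 : w = 1 := by
        by_contra hne
        exact hB b hbA hbp hb w hne hw
      have hwt : Wt R hG b 1 := by
        rw [← hw1]
        exact hw
      have h5 := cnt_of_one R hG hiso hQ hQT hC hbQ₀ (ht b) hwt
      unfold H726.CY.ev
      rw [ht b, map_one (typHom R hG), Equiv.Perm.sign_one, Units.val_one, one_mul, one_mul]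
      exact h5

end Main

end Cfsg.Agent.H364.CY
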